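import Mathlib
import Cfsg.Prelude.Def_Characters
import Cfsg.Agent.Lib.helper7.BR.Defs

/-!
# Project O459 (S1022, 10u): no simple group of order `459648 = 2^7 * 3^3 * 7 * 19`

Leader: helper13.  See `PLAN.md` and `Skel.lean.txt` in this folder.
The only definition is the instance `Fact (Nat.Prime 19)`; `nrm P = N_G(P)`, `cen P = C_G(P)` are those of project BR
(`Cfsg.Agent.Lib.helper7.BR.Defs`).
-/

set_option autoImplicit false

namespace Cfsg.Agent.Lib.Helper13.O459

/-- `19` is prime (instance used by all pieces). -/
instance o459_fact19 : Fact (Nat.Prime 19) := ⟨by norm_num⟩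

/-- `7` is prime. -/
instance o459_fact7 : Fact (Nat.Prime 7) := ⟨by norm_num⟩

end Cfsg.Agent.Lib.Helper13.O459
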