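import Mathlib
import Cfsg.Agent.Lib.Helper13.O459.Defs
import Cfsg.Agent.Lib.Helper11.O459N96
import Cfsg.Agent.Lib.Helper18.O459D18
import Cfsg.Agent.Lib.helper17.O459CENT
import Cfsg.Agent.Lib.Helper13.O459D56h13
import Cfsg.Agent.Lib.Helper13.O459BLOCK
import Cfsg.Agent.Lib.Helper20.O459SETUP
import Cfsg.Agent.Lib.Helper20.O459NUM
import Cfsg.Agent.Lib.Helper25.O459INVOL
import Cfsg.Agent.Lib.helper4.O459FINAL
import Cfsg.Agent.Lib.helper8.O459V4KILL
import Cfsg.Agent.Lib.Helper16.BRSET2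
import Cfsg.Agent.Lib.Helper1.BRSET3

/-!
# Project O459 (S1022), piece MAIN (leader): no simple group of order `459648`.
-/

set_option autoImplicit false
set_option linter.unusedVariables false
set_option linter.unusedSectionVars false

namespace Cfsg.Agent.Lib.Helper13.O459

open Classical
open Cfsg.Agent.Lib.helper7.BR Cfsg.Agent.Lib.Helper25

universe u

variable {G : Type u} [Group G] [Fintype G]

/-- MAIN [M] (leader): assembly. -/
theorem no_simple_459648 [IsSimpleGroup G] : Nat.card G ≠ 459648 := by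
  intro hG
  obtain ⟨hperf, hsyl⟩ := setup hG
  obtain ⟨P⟩ : Nonempty (Sylow 19 G) := inferInstance
  obtain ⟨hP, hPn⟩ := hsyl P
  obtain ⟨q, w, n, hqdvd, hq1, hw, hn, hrel, hcC, hcN, hidx, hcidx, hcG⟩ :=
    order_formula P hP hPn
  have hq18 : q ∣ 18 := hqdvd
  rw [hG] at hcG
  rcases num q w n hq18 hn hcG with ⟨hn5, hqw⟩ | ⟨hn53, hqw⟩
  · -- `n = 5`
    refine n96_false hG P hP (by rw [hidx, hn5]) ?_
    rw [hcC]
    have h7 : 7 ∣ q * w := by rw [hqw]; norm_num
    have h7' : Nat.Coprime 7 q := Nat.Coprime.coprime_dvd_right hq18 (by norm_num)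
    exact Dvd.dvd.mul_left (h7'.dvd_of_dvd_mul_left h7) 19
  · -- `n = 53`
    have hq1' : q ≠ 1 := by
      have := relIndex_ne_one hperf P hP
      rwa [hrel] at this
    have hq6 : q ∣ 6 := by
      have h24 : q ∣ 24 := Dvd.intro w hqw
      have := Nat.dvd_gcd hq18 h24
      norm_num at this
      exact this
    have hq' : q = 2 ∨ q = 3 ∨ q = 6 := by
      have hle : q ≤ 6 := Nat.le_of_dvd (by norm_num) hq6
      interval_cases q <;> omega
    have hcidx' : (cen P).index = q * 1008 := by rw [hcidx, hn53]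
    obtain ⟨hq6', hchar⟩ := block hperf hG P hP q hrel hq' hcidx'
    subst hq6'
    have hw4 : w = 4 := by omega
    have hcen76 : Nat.card ↥(cen P) = 76 := by rw [hcC, hw4]
    have hN456 : Nat.card ↥(nrm P) = 456 := by rw [hcN, hw4]
    rcases invol_dichotomy P hP hcen76 with ⟨y, hyc, hy2, hyN⟩ | ⟨K, y, hK, hyK, hyc, hy2, hconj⟩
    · rcases hchar with ⟨χ, h1, hval⟩ | ⟨χ, χ', hne, h1, h1', hval, hval'⟩
      · exact d18_false P hP y hy2 hyc χ h1 hval
      · have hv := o459d56h13_main P hP y hy2 hyc χ h1 hval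
        have hv' := o459d56h13_main P hP y hy2 hyc χ' h1' hval'
        exact final_count hG P hP hN456 y hy2 hyN (cent_ge y χ χ' hne hv hv')
    · rcases hchar with ⟨χ, h1, hval⟩ | ⟨χ, χ', hne, h1, h1', hval, hval'⟩
      · exact d18_false P hP y hy2 hyc χ h1 hval
      · exact v4_false K hK y hyK hconj χ h1 (o459d56h13_main P hP y hy2 hyc χ h1 hval)

end Cfsg.Agent.Lib.Helper13.O459
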